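import Cfsg.Agent.H378.RegE7

/-!
# The order of the torus `ℤ^l/(w - q)` in codimension one (helper759)

`det_codim` : `Φ_m(w)` singular, `φ(m) + 1 = l`: `det (w - q)` divides `Φ_m(q) (q² - 1)`.
-/

set_option autoImplicit false

namespace Cfsg.Agent.H759.Reg

open Polynomial Cfsg.Agent.H378.LatCyc Cfsg.Agent.H378.LatCodim

theorem det_codim {l m : ℕ} (hm : 0 < m) (hl : m.totient + 1 = l) {w : Module.End ℤ (Fin l → ℤ)} {y : Fin l → ℤ}
    (hy : y ≠ 0) (h : aeval w (cyclotomic m ℤ) y = 0) {N : ℕ} (hN : 0 < N) (hw : w ^ N = 1) (q : ℤ) :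
    (LinearMap.det (w - q • (1 : Module.End ℤ (Fin l → ℤ)))).natAbs ∣
      ((cyclotomic m ℤ).eval q * (q ^ 2 - 1)).natAbs := by
  have hQ : aeval (toQ w) (cyclotomic m ℚ) (vq y) = 0 := aeval_vq h
  have hvy : vq y ≠ 0 := fun h0 => hy (vq_eq_zero.1 h0)
  have h1 : cyclotomic m ℚ ∣ (toQ w).charpoly := by
    by_contra hnd
    have hcop : IsCoprime (cyclotomic m ℚ) (toQ w).charpoly :=
      ((cyclotomic.irreducible_rat hm).coprime_iff_not_dvd).2 hnd
    refine hvy (eq_zero_of_coprime hcop hQ ?_)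
    rw [LinearMap.aeval_self_charpoly]
    rfl
  obtain ⟨L, hL⟩ := h1
  have hLm : L.Monic := Monic.of_mul_monic_left (cyclotomic.monic m ℚ) (hL ▸ LinearMap.charpoly_monic (toQ w))
  have hLd : L.natDegree = 1 := by
    have h2 : (toQ w).charpoly.natDegree = l := by
      rw [LinearMap.charpoly_natDegree]; simp
    rw [hL, (cyclotomic.monic m ℚ).natDegree_mul hLm, natDegree_cyclotomic] at h2
    omega
  obtain ⟨c, rfl⟩ : ∃ c : ℚ, L = X - C c := by
    refine ⟨-L.coeff 0, ?_⟩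
    have h2 := hLm.eq_X_add_C hLd
    rw [C_neg, sub_neg_eq_add]
    exact h2
  -- the eigenvalue
  have hroot : (toQ w).charpoly.IsRoot c := by
    rw [hL, IsRoot, eval_mul]
    simp
  have heig : Module.End.HasEigenvalue (toQ w) c := (Module.End.hasEigenvalue_iff_isRoot_charpoly _ _).2 hroot
  obtain ⟨v, hv⟩ := heig.exists_hasEigenvector
  have hcN : c ^ N = 1 := by
    have h2 := hv.pow_apply N
    rw [← map_pow, hw, map_one, Module.End.one_apply] at h2
    have h3 : (c ^ N - 1) • v = 0 := by rw [sub_smul, one_smul, ← h2, sub_self]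
    rcases smul_eq_zero.1 h3 with h4 | h4
    · exact sub_eq_zero.1 h4
    · exact absurd h4 hv.2
  have hc : c = 1 ∨ c = -1 := by
    rcases (pow_eq_one_iff_cases).1 hcN with h2 | h2 | h2
    · omega
    · exact Or.inl h2
    · exact Or.inr h2.1
  -- the determinant
  have h1 : ((LinearMap.det (w - q • (1 : Module.End ℤ (Fin l → ℤ))) : ℤ) : ℚ) =
      LinearMap.det (toQ (w - q • (1 : Module.End ℤ (Fin l → ℤ)))) := by
    rw [← LinearMap.det_toMatrix']
    show (Int.castRingHom ℚ) _ = LinearMap.det (Matrix.toLin' _)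
    rw [LinearMap.det_toLin', RingHom.map_det]
    rfl
  have h2 : toQ (w - q • (1 : Module.End ℤ (Fin l → ℤ))) = -(algebraMap ℚ _ (q : ℚ) - toQ w) := by
    rw [map_sub, neg_sub]
    congr 1
    rw [zsmul_eq_mul, map_mul, map_one, mul_one, map_intCast, map_intCast]
  have h3 : ((LinearMap.det (w - q • (1 : Module.End ℤ (Fin l → ℤ))) : ℤ) : ℚ) =
      (-1) ^ l * ((((cyclotomic m ℤ).eval q : ℤ) : ℚ) * ((q : ℚ) - c)) := by
    have h4 : (((cyclotomic m ℤ).eval q : ℤ) : ℚ) = (cyclotomic m ℚ).eval (q : ℚ) := by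
      rw [← map_cyclotomic_int m ℚ, eval_intCast_map]
      rfl
    have h5 : (cyclotomic m ℚ).eval (q : ℚ) * ((q : ℚ) - c) = (toQ w).charpoly.eval (q : ℚ) := by
      rw [hL, eval_mul, eval_sub, eval_X, eval_C]
    rw [h1, h2, h4, h5, LinearMap.eval_charpoly, ← neg_one_smul ℚ, LinearMap.det_smul]
    congr 2
    simp
  have h6 : (q ^ 2 - 1 : ℤ) = (q - 1) * (q + 1) := by ring
  rcases hc with rfl | rfl
  · have h5 : LinearMap.det (w - q • (1 : Module.End ℤ (Fin l → ℤ))) =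
        (-1) ^ l * ((cyclotomic m ℤ).eval q * (q - 1)) := by
      exact_mod_cast h3
    rw [h5, Int.natAbs_mul, Int.natAbs_pow, Int.natAbs_neg, Int.natAbs_one, one_pow, one_mul, Int.natAbs_dvd_natAbs,
      h6, ← mul_assoc]
    exact Dvd.intro _ rfl
  · have h5 : LinearMap.det (w - q • (1 : Module.End ℤ (Fin l → ℤ))) =
        (-1) ^ l * ((cyclotomic m ℤ).eval q * (q + 1)) := by
      rw [sub_neg_eq_add] at h3
      exact_mod_cast h3
    rw [h5, Int.natAbs_mul, Int.natAbs_pow, Int.natAbs_neg, Int.natAbs_one, one_pow, one_mul, Int.natAbs_dvd_natAbs,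
      h6, mul_comm (q - 1), ← mul_assoc]
    exact Dvd.intro _ rfl

end Cfsg.Agent.H759.Reg
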